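import Groth.Prelude.Def_EtGm
import Groth.Agent.EtFLC.Site
import Groth.Agent.EtMV.Free
import Groth.Agent.EtMV.AdjExt
import Groth.Agent.EtMV.Inst
import Groth.Agent.EtMV.Base
import Groth.Agent.EtMV.Abs
import Groth.Agent.EtPullExact.Basic
import Mathlib.RingTheory.Flat.FaithfullyFlat.Algebra

/-!
# Classes in `H¹` of the small étale site through an injective embedding
-/

set_option autoImplicit false
set_option backward.isDefEq.respectTransparency false
set_option backward.isDefEq.respectTransparency.types false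
set_option linter.style.haveILetI false

universe u

open CategoryTheory CategoryTheory.Limits CategoryTheory.Abelian AlgebraicGeometry TopologicalSpace Opposite
open Groth.Agent.EtFLC (res res_res res_id app_res sect_ext mem_iff)
open Groth.Agent.EtMV (oo P σ hom_oo_ext injSeq injSeq_shortExact exists_lift range_subset toTop)

noncomputable section

namespace Groth.Agent.EtPicLib

attribute [local instance 100000] EtCoh.H._proof_1 EtMV.hext
attribute [local instance 200000] EtMV.hextAb

variable {X : Scheme.{u}} {G I Q : EtCoh.Ab X}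

/-- Restriction to a smaller open. -/
abbrev rr (F : EtCoh.Ab X) {U V : X.Opens} (h : V ≤ U) : EtCoh.sect F (oo U) →+ EtCoh.sect F (oo V) :=
  res F (EtMV.res h)

theorem rr_rr (F : EtCoh.Ab X) {U V W : X.Opens} (h : W ≤ V) (h' : V ≤ U) (s : EtCoh.sect F (oo U)) :
    rr F h (rr F h' s) = rr F (h.trans h') s := by
  rw [res_res, hom_oo_ext (EtMV.res h ≫ EtMV.res h') (EtMV.res (h.trans h'))]

/-- Two maps to the final object agree. -/
theorem res_top (F : EtCoh.Ab X) {T : X.Etale} (a b : T ⟶ EtCoh.top X) (s : EtCoh.sect F (EtCoh.top X)) :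
    res F a s = res F b s := by rw [EtMV.hom_top_ext a b]

/-- **glueing sections along a family of morphisms which is jointly surjective** -/
theorem exists_glue (F : EtCoh.Ab X) {κ : Type*} {o' : X.Etale} (o : κ → X.Etale) (h : ∀ a, o a ⟶ o')
    (hcov : ∀ v : o'.left, ∃ a, ∃ w : (o a).left, (h a).left w = v) (s : ∀ a, EtCoh.sect F (o a))
    (hs : ∀ (a b : κ) (T : X.Etale) (p : T ⟶ o a) (q : T ⟶ o b), p ≫ h a = q ≫ h b → res F p (s a) = res F q (s b)) :
    ∃ t : EtCoh.sect F o', ∀ a, res F (h a) t = s a := by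
  let S : Sieve o' :=
    { arrows := fun Z g => ∃ (a : κ) (p : Z ⟶ o a), p ≫ h a = g
      downward_closed := fun {Z W g} ⟨a, p, hp⟩ k => ⟨a, k ≫ p, by rw [Category.assoc, hp]⟩ }
  have hS : S ∈ X.smallEtaleTopology o' := (mem_iff S).2 fun v => by
    obtain ⟨a, w, hw⟩ := hcov v
    exact ⟨o a, h a, w, ⟨a, 𝟙 _, Category.id_comp _⟩, hw⟩
  let x : Presieve.FamilyOfElements (F.obj ⋙ forget AddCommGrpCat.{u + 1}) S.arrows := fun Z g hg =>
    res F hg.choose_spec.choose (s hg.choose)
  have hx : ∀ {Z : X.Etale} (g : Z ⟶ o') (hg : S.arrows g) (a : κ) (p : Z ⟶ o a), p ≫ h a = g →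
      x g hg = res F p (s a) := fun g hg a p hp =>
    hs _ a _ _ p (hg.choose_spec.choose_spec.trans hp.symm)
  have hxc : x.Compatible := by
    intro Y₁ Y₂ Z g₁ g₂ f₁ f₂ hf₁ hf₂ w
    obtain ⟨a, p, hp⟩ := hf₁
    obtain ⟨b, q, hq⟩ := hf₂
    change res F g₁ (x f₁ _) = res F g₂ (x f₂ _)
    rw [hx f₁ ⟨a, p, hp⟩ a p hp, hx f₂ ⟨b, q, hq⟩ b q hq, res_res, res_res]
    exact hs a b _ _ _ (by rw [Category.assoc, Category.assoc, hp, hq, w])
  obtain ⟨t, ht, -⟩ := ((isSheaf_iff_isSheaf_of_type _ _).1 (Presheaf.isSheaf_comp_of_isSheaf X.smallEtaleTopology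
    F.obj (forget AddCommGrpCat) F.property)) S hS x hxc
  refine ⟨t, fun a => ?_⟩
  have := ht (h a) ⟨a, 𝟙 _, Category.id_comp _⟩
  exact this.trans ((hx (h a) _ a (𝟙 _) (Category.id_comp _)).trans (res_id F _))

/-- **glueing on an open cover** -/
theorem exists_glue_opens (F : EtCoh.Ab X) {κ : Type*} (U : κ → X.Opens) (hU : ∀ x : X, ∃ a, x ∈ U a)
    (s : ∀ a, EtCoh.sect F (oo (U a)))
    (hs : ∀ a b, rr F (inf_le_left : U a ⊓ U b ≤ U a) (s a) = rr F (inf_le_right : U a ⊓ U b ≤ U b) (s b)) :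
    ∃ t : EtCoh.sect F (EtCoh.top X), ∀ a, res F (toTop (oo (U a))) t = s a := by
  refine exists_glue F (fun a => oo (U a)) (fun a => toTop _) (fun v => ?_) s fun a b T p q _ => ?_
  · obtain ⟨a, ha⟩ := hU v
    exact ⟨a, ⟨v, ha⟩, rfl⟩
  · obtain ⟨c⟩ := exists_lift (U := U a ⊓ U b) (T := T)
      (fun x hx => ⟨range_subset p hx, range_subset q hx⟩)
    rw [hom_oo_ext p (c ≫ EtMV.res inf_le_left), hom_oo_ext q (c ≫ EtMV.res inf_le_right), ← res_res, ← res_res]
    exact congrArg _ (hs a b)

section exact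

variable {S : ShortComplex (EtCoh.Ab X)} (hS : S.ShortExact)
include hS

theorem f_injective (o : X.Etale) : Function.Injective (S.f.hom.app (op o)) := by
  haveI := hS.mono_f
  haveI : Mono ((sheafToPresheaf X.smallEtaleTopology AddCommGrpCat.{u + 1} ⋙
      (evaluation X.Etaleᵒᵖ AddCommGrpCat.{u + 1}).obj (op o)).map S.f) := inferInstance
  exact (AddCommGrpCat.mono_iff_injective _).1 this

theorem exists_kernel {o : X.Etale} (x : EtCoh.sect S.X₂ o) (hx : S.g.hom.app (op o) x = 0) :
    ∃ g : EtCoh.sect S.X₁ o, S.f.hom.app (op o) g = x := by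
  haveI := hS.mono_f
  have h := hS.exact.map_of_mono_of_preservesKernel
    (sheafToPresheaf X.smallEtaleTopology AddCommGrpCat.{u + 1} ⋙ (evaluation X.Etaleᵒᵖ AddCommGrpCat.{u + 1}).obj (op o))
    inferInstance inferInstance
  exact (ShortComplex.ab_exact_iff _).1 h x hx

end exact

theorem g_f {S : ShortComplex (EtCoh.Ab X)} {o : X.Etale} (x : EtCoh.sect S.X₁ o) :
    S.g.hom.app (op o) (S.f.hom.app (op o) x) = 0 :=
  ConcreteCategory.congr_hom (NatTrans.congr_app (congrArg (fun e => e.hom) S.zero) (op o)) x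

/-- `Hom(P(o), F) = F(o)` as groups. -/
def sigmaAdd (o : X.Etale) (F : EtCoh.Ab X) : ((P X).obj o ⟶ F) ≃+ EtCoh.sect F o :=
  { σ with map_add' := EtMV.σ_add }

variable (G)

/-- The connecting map `Q(X) → H¹(X, G)` of the chosen injective embedding. -/
def δ : EtCoh.sect (injSeq G).X₃ (EtCoh.top X) →+ EtCoh.H X G 1 :=
  AddMonoidHom.mk' (fun q => EtMV.preIso (EtMV.θ X) G 1
      ((Ext.mk₀ ((sigmaAdd _ _).symm q)).comp (injSeq_shortExact G).extClass (zero_add 1)))
    fun q q' => by rw [map_add, Ext.mk₀_add, Ext.add_comp, map_add]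

theorem δ_surjective (x : EtCoh.H X G 1) : ∃ q, δ G q = x := by
  obtain ⟨d, hd⟩ := Ext.covariant_sequence_exact₁ _ (injSeq_shortExact G)
    ((EtMV.preIso (EtMV.θ X) G 1).symm x) (Ext.eq_zero_of_injective _) (zero_add 1)
  obtain ⟨φ, rfl⟩ := (Ext.mk₀_bijective _ _).2 d
  refine ⟨sigmaAdd _ _ φ, ?_⟩
  change EtMV.preIso (EtMV.θ X) G 1 _ = x
  rw [AddEquiv.symm_apply_apply, hd, AddEquiv.apply_symm_apply]

theorem δ_eq_zero_iff (q : EtCoh.sect (injSeq G).X₃ (EtCoh.top X)) :
    δ G q = 0 ↔ ∃ y, (injSeq G).g.hom.app (op (EtCoh.top X)) y = q := by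
  change EtMV.preIso (EtMV.θ X) G 1 _ = 0 ↔ _
  rw [map_eq_zero_iff _ (AddEquiv.injective _)]
  constructor
  · intro h
    obtain ⟨d, hd⟩ := Ext.covariant_sequence_exact₃ _ (injSeq_shortExact G) _ (zero_add 1) h
    obtain ⟨ψ, rfl⟩ := (Ext.mk₀_bijective _ _).2 d
    rw [Ext.mk₀_comp_mk₀] at hd
    refine ⟨σ ψ, ?_⟩
    rw [← EtMV.σ_comp, (Ext.mk₀_bijective _ _).1 hd]
    exact (sigmaAdd _ _).apply_symm_apply q
  · rintro ⟨y, rfl⟩
    have : (sigmaAdd (EtCoh.top X) (injSeq G).X₃).symm ((injSeq G).g.hom.app (op (EtCoh.top X)) y) =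
        σ.symm y ≫ (injSeq G).g := by
      apply (sigmaAdd (EtCoh.top X) (injSeq G).X₃).injective
      rw [AddEquiv.apply_symm_apply]
      change _ = σ _
      rw [EtMV.σ_comp, Equiv.apply_symm_apply]
    rw [this, ← Ext.mk₀_comp_mk₀_assoc, (injSeq_shortExact G).comp_extClass, Ext.comp_zero]

variable {G}

/-! ### Extending a cocycle to the injective sheaf -/

section split

variable {κ : Type u} (U : κ → X.Opens)

/-- the members of the cover containing the image of an étale object -/
def Idx (T : X.Etale) : Type (u + 1) := ULift.{u + 1} {a : κ // Set.range T.hom ⊆ (U a : Set X)}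

/-- functoriality -/
def idxMap {T T' : X.Etale} (f : T' ⟶ T) (a : Idx U T) : Idx U T' :=
  ⟨a.down.1, fun x ⟨t, ht⟩ => a.down.2 ⟨f.left t,
    ((congrArg (fun m : T'.left ⟶ X => m t) (MorphismProperty.Over.w f)).trans ht)⟩⟩

/-- the free abelian presheaf on `Idx` -/
def freeIdx : X.Etaleᵒᵖ ⥤ AddCommGrpCat.{u + 1} where
  obj T := AddCommGrpCat.of (FreeAbelianGroup (Idx U T.unop))
  map f := AddCommGrpCat.ofHom (FreeAbelianGroup.map (idxMap U f.unop))
  map_id T := by
    ext : 1
    exact FreeAbelianGroup.lift_ext _ _ fun a => FreeAbelianGroup.map_of_apply a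
  map_comp f g := by
    ext : 1
    refine FreeAbelianGroup.lift_ext _ _ fun a => ?_
    refine (FreeAbelianGroup.map_of_apply a).trans ?_
    change _ = FreeAbelianGroup.map (idxMap U g.unop) (FreeAbelianGroup.map (idxMap U f.unop) (FreeAbelianGroup.of a))
    rw [FreeAbelianGroup.map_of_apply, FreeAbelianGroup.map_of_apply]
    rfl

/-- the degree -/
def deg (T : X.Etale) : FreeAbelianGroup (Idx U T) →+ ℤ := FreeAbelianGroup.lift fun _ => 1

theorem deg_map {T T' : X.Etale} (f : T' ⟶ T) (x : FreeAbelianGroup (Idx U T)) :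
    deg U T' (FreeAbelianGroup.map (idxMap U f) x) = deg U T x :=
  DFunLike.congr_fun (FreeAbelianGroup.lift_ext ((deg U T').comp (FreeAbelianGroup.map (idxMap U f))) (deg U T)
    fun a => by simp [deg]) x

/-- the degree zero part -/
def degZero : X.Etaleᵒᵖ ⥤ AddCommGrpCat.{u + 1} where
  obj T := AddCommGrpCat.of (deg U T.unop).ker
  map {T T'} f := AddCommGrpCat.ofHom
    ((((freeIdx U).map f).hom.comp (deg U T.unop).ker.subtype).codRestrict (deg U T'.unop).ker
      (fun x => (deg_map U f.unop x.1).trans x.2))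
  map_id T := by
    ext x
    exact ConcreteCategory.congr_hom ((freeIdx U).map_id T) x.1
  map_comp f g := by
    ext x
    exact ConcreteCategory.congr_hom ((freeIdx U).map_comp f g) x.1

/-- the inclusion -/
def degZeroι : degZero U ⟶ freeIdx U where
  app T := AddCommGrpCat.ofHom (deg U T.unop).ker.subtype
  naturality T T' f := by
    ext x
    rfl

instance : Mono (degZeroι U) := by
  haveI : ∀ T, Mono ((degZeroι U).app T) := fun T =>
    (AddCommGrpCat.mono_iff_injective _).2 fun x y h => Subtype.ext h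
  exact NatTrans.mono_of_mono_app _

/-- **a cocycle becomes a coboundary in an injective sheaf** -/
theorem exists_split [Injective I] (e : G ⟶ I) (g : ∀ a b, EtCoh.sect G (oo (U a ⊓ U b)))
    (hg : ∀ (a b c : κ) (W : X.Opens) (ha : W ≤ U a) (hb : W ≤ U b) (hc : W ≤ U c),
      rr G (le_inf ha hb) (g a b) + rr G (le_inf hb hc) (g b c) = rr G (le_inf ha hc) (g a c)) :
    ∃ i : ∀ a, EtCoh.sect I (oo (U a)), ∀ a b,
      rr I (inf_le_left : U a ⊓ U b ≤ U a) (i a) - rr I (inf_le_right : U a ⊓ U b ≤ U b) (i b) =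
        e.hom.app (op (oo (U a ⊓ U b))) (g a b) := by
  classical
  have hlift : ∀ {T : X.Etale} (a b : Idx U T), Nonempty (T ⟶ oo (U a.down.1 ⊓ U b.down.1)) := fun a b =>
    exists_lift fun x hx => ⟨a.down.2 hx, b.down.2 hx⟩
  let sub : ∀ {T : X.Etale}, Idx U T → Idx U T → EtCoh.sect G T := fun a b => res G (hlift a b).some (g _ _)
  have hsub_eq : ∀ {T : X.Etale} (a b : Idx U T) (f : T ⟶ oo (U a.down.1 ⊓ U b.down.1)),
      sub a b = res G f (g a.down.1 b.down.1) := fun a b f => by
    simp only [sub, hom_oo_ext (hlift a b).some f]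
  have hsub_add : ∀ {T : X.Etale} (a b c : Idx U T), sub a b + sub b c = sub a c := fun {T} a b c => by
    obtain ⟨k⟩ := exists_lift (U := U a.down.1 ⊓ U b.down.1 ⊓ U c.down.1) (T := T)
      fun x hx => ⟨⟨a.down.2 hx, b.down.2 hx⟩, c.down.2 hx⟩
    have h := congrArg (res G k) (hg a.down.1 b.down.1 c.down.1 _ (inf_le_left.trans inf_le_left)
      (inf_le_left.trans inf_le_right) inf_le_right)
    rw [map_add, res_res, res_res, res_res] at h
    rwa [← hsub_eq, ← hsub_eq, ← hsub_eq] at h
  have hsub_map : ∀ {T T' : X.Etale} (f : T' ⟶ T) (a b : Idx U T),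
      res G f (sub a b) = sub (idxMap U f a) (idxMap U f b) := fun {T T'} f a b => by
    rw [hsub_eq a b (hlift a b).some, res_res]
    exact (hsub_eq (idxMap U f a) (idxMap U f b) _).symm
  let base : ∀ (T : X.Etale), Idx U T → Idx U T := fun T t => if h : Nonempty (Idx U T) then h.some else t
  let α : ∀ T : X.Etale, FreeAbelianGroup (Idx U T) →+ EtCoh.sect G T := fun T =>
    FreeAbelianGroup.lift fun t => sub t (base T t)
  have hchange : ∀ {T : X.Etale} (a : Idx U T) (x : FreeAbelianGroup (Idx U T)), deg U T x = 0 →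
      α T x = FreeAbelianGroup.lift (fun t => sub t a) x := by
    intro T a x hx
    have h : α T = FreeAbelianGroup.lift (fun t => sub t a) +
        (zmultiplesHom _ (sub a (base T a))).comp (deg U T) := by
      refine FreeAbelianGroup.lift_ext _ _ fun t => ?_
      have hb : base T t = base T a := by simp [base, show Nonempty (Idx U T) from ⟨a⟩]
      simp only [α, FreeAbelianGroup.lift_apply_of, AddMonoidHom.add_apply, AddMonoidHom.comp_apply, deg,
        zmultiplesHom_apply, one_zsmul, hb, hsub_add]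
    rw [h, AddMonoidHom.add_apply, AddMonoidHom.comp_apply, hx, map_zero, add_zero]
  let A : degZero U ⟶ G.obj :=
    { app := fun T => AddCommGrpCat.ofHom ((α T.unop).comp (deg U T.unop).ker.subtype)
      naturality := fun T T' f => by
        ext x
        change α T'.unop (FreeAbelianGroup.map (idxMap U f.unop) x.1) = res G f.unop (α T.unop x.1)
        by_cases h : Nonempty (Idx U T.unop)
        · obtain ⟨a⟩ := h
          rw [hchange (idxMap U f.unop a) _ ((deg_map U f.unop x.1).trans x.2), hchange a _ x.2]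
          exact DFunLike.congr_fun (FreeAbelianGroup.lift_ext
            ((FreeAbelianGroup.lift fun t => sub t (idxMap U f.unop a)).comp (FreeAbelianGroup.map (idxMap U f.unop)))
            ((res G f.unop).comp (FreeAbelianGroup.lift fun t => sub t a))
            fun t => by simp [hsub_map]) x.1
        · haveI : IsEmpty (Idx U T.unop) := not_nonempty_iff.1 h
          rw [Subsingleton.elim x.1 0, map_zero, map_zero, map_zero, map_zero] }
  haveI : Injective I.obj := EtPullExact.presheaf_injective I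
  let β : freeIdx U ⟶ I.obj := Injective.factorThru (A ≫ e.hom) (degZeroι U)
  have hβ : degZeroι U ≫ β = A ≫ e.hom := Injective.comp_factorThru _ _
  have hnat : ∀ {T T' : X.Etale} (f : T' ⟶ T) (a : Idx U T),
      res I f (β.app (op T) (FreeAbelianGroup.of a)) = β.app (op T') (FreeAbelianGroup.of (idxMap U f a)) :=
    fun f a => ((NatTrans.naturality_apply β f.op (FreeAbelianGroup.of a)).symm.trans
      (congrArg _ (FreeAbelianGroup.map_of_apply a)))
  let self : ∀ a, Idx U (oo (U a)) := fun a => ⟨a, (U a).range_ι.le⟩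
  refine ⟨fun a => β.app (op (oo (U a))) (FreeAbelianGroup.of (self a)), fun a b => ?_⟩
  let a' : Idx U (oo (U a ⊓ U b)) := idxMap U (EtMV.res inf_le_left) (self a)
  let b' : Idx U (oo (U a ⊓ U b)) := idxMap U (EtMV.res inf_le_right) (self b)
  rw [hnat, hnat]
  change β.app _ (FreeAbelianGroup.of a') - β.app _ (FreeAbelianGroup.of b') = _
  have hx : deg U _ (FreeAbelianGroup.of a' - FreeAbelianGroup.of b') = 0 := by simp [deg]
  have h := ConcreteCategory.congr_hom (NatTrans.congr_app hβ (op (oo (U a ⊓ U b)))) ⟨_, hx⟩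
  change β.app _ (FreeAbelianGroup.of a' - FreeAbelianGroup.of b') = e.hom.app _ (α _ (FreeAbelianGroup.of a' - FreeAbelianGroup.of b')) at h
  rw [map_sub] at h
  rw [h, hchange b' _ hx, map_sub, FreeAbelianGroup.lift_apply_of, FreeAbelianGroup.lift_apply_of,
    hsub_eq a' b' (𝟙 _), show sub b' b' = 0 from left_eq_add.1 (hsub_add b' b' b').symm, sub_zero]
  exact congrArg _ (res_id G (g a b))

end split

end Groth.Agent.EtPicLib
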