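import Groth.Agent.EtPicLib.Basic
import Groth.Agent.QC.Sections

/-!
# Sections of `G_m` as units
-/

set_option autoImplicit false
set_option backward.isDefEq.respectTransparency false
set_option backward.isDefEq.respectTransparency.types false
set_option linter.style.haveILetI false

universe u

open CategoryTheory CategoryTheory.Limits AlgebraicGeometry TopologicalSpace Opposite
open Groth.Agent.EtFLC (res)
open Groth.Agent.EtMV (oo)
open Groth.Agent.QC (resO resO_resO)

noncomputable section

namespace Groth.Agent.EtPicLib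

variable {X : Scheme.{u}}

/-- the function underlying a section of `G_m` -/
def uval {T : X.Etale} (s : EtCoh.sect (EtCoh.Gm X) T) : Γ(T.left, ⊤) :=
  ((s.down : Additive (Γ(T.left, ⊤))ˣ).toMul : (Γ(T.left, ⊤))ˣ).1

theorem isUnit_uval {T : X.Etale} (s : EtCoh.sect (EtCoh.Gm X) T) : IsUnit (uval s) := Units.isUnit _

theorem uval_add {T : X.Etale} (s s' : EtCoh.sect (EtCoh.Gm X) T) : uval (s + s') = uval s * uval s' := rfl

theorem uval_zero (T : X.Etale) : uval (0 : EtCoh.sect (EtCoh.Gm X) T) = 1 := rfl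

theorem uval_res {T T' : X.Etale} (f : T' ⟶ T) (s : EtCoh.sect (EtCoh.Gm X) T) :
    uval (res (EtCoh.Gm X) f s) = f.left.appTop (uval s) := rfl

theorem uval_injective {T : X.Etale} : Function.Injective (uval : EtCoh.sect (EtCoh.Gm X) T → _) :=
  fun _ _ h => ULift.ext _ _ (Units.ext h)

theorem exists_uval {T : X.Etale} {x : Γ(T.left, ⊤)} (hx : IsUnit x) :
    ∃ s : EtCoh.sect (EtCoh.Gm X) T, uval s = x :=
  ⟨(ULift.up (Additive.ofMul hx.unit) : ULift.{u + 1} (Additive (Γ(T.left, ⊤))ˣ)), rfl⟩

/-- the function on an open underlying a section of `G_m` -/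
def oval {U : X.Opens} (s : EtCoh.sect (EtCoh.Gm X) (oo U)) : Γ(X, U) := U.topIso.hom (uval s)

theorem isUnit_oval {U : X.Opens} (s : EtCoh.sect (EtCoh.Gm X) (oo U)) : IsUnit (oval s) :=
  (isUnit_uval s).map U.topIso.hom.hom

theorem oval_add {U : X.Opens} (s s' : EtCoh.sect (EtCoh.Gm X) (oo U)) : oval (s + s') = oval s * oval s' := by
  simp only [oval, uval_add]
  exact map_mul U.topIso.hom.hom _ _

theorem oval_injective {U : X.Opens} : Function.Injective (oval : EtCoh.sect (EtCoh.Gm X) (oo U) → _) :=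
  fun _ _ h => uval_injective ((ConcreteCategory.bijective_of_isIso U.topIso.hom).1 h)

theorem exists_oval {U : X.Opens} {x : Γ(X, U)} (hx : IsUnit x) :
    ∃ s : EtCoh.sect (EtCoh.Gm X) (oo U), oval s = x := by
  obtain ⟨s, hs⟩ := exists_uval (T := oo U) (hx.map U.topIso.inv.hom)
  refine ⟨s, ?_⟩
  rw [oval, hs]
  exact ConcreteCategory.congr_hom U.topIso.inv_hom_id x

theorem oval_rr {U V : X.Opens} (h : V ≤ U) (s : EtCoh.sect (EtCoh.Gm X) (oo U)) :
    oval (rr (EtCoh.Gm X) h s) = resO X h (oval s) := by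
  have e : (X.homOfLE h).appTop ≫ V.topIso.hom = U.topIso.hom ≫ X.presheaf.map (homOfLE h).op := by
    simp only [Scheme.Opens.topIso, Functor.mapIso_hom, Scheme.homOfLE_appTop, ← Functor.map_comp]
    rfl
  exact ConcreteCategory.congr_hom e (uval s)

/-- The chosen unit as a section. -/
def ofO {U : X.Opens} {x : Γ(X, U)} (hx : IsUnit x) : EtCoh.sect (EtCoh.Gm X) (oo U) := (exists_oval hx).choose

theorem oval_ofO {U : X.Opens} {x : Γ(X, U)} (hx : IsUnit x) : oval (ofO hx) = x := (exists_oval hx).choose_spec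

end Groth.Agent.EtPicLib
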